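import Groth.Agent.Lib.Approx6.Scheme
import Mathlib.RingTheory.Spectrum.Prime.ConstructibleSet
import Mathlib.AlgebraicGeometry.AffineScheme

/-!
# Refining a Noetherian model so as to avoid a constructible subset of the base
-/

universe u

open CategoryTheory Limits AlgebraicGeometry

set_option linter.style.haveILetI false

noncomputable section

namespace GrothLib.Approx6

/-- A constructible set not met by `Spec A` is not met by some finitely generated stage. -/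
theorem exists_stage_avoid {R A : Type u} [CommRing R] [CommRing A] [Algebra R A] {E : Set (PrimeSpectrum R)}
    (hE : Topology.IsConstructible E) (h : ∀ p : PrimeSpectrum A, PrimeSpectrum.comap (algebraMap R A) p ∉ E) :
    ∃ T : Subalgebra R A, T.FG ∧ ∀ q : PrimeSpectrum T, PrimeSpectrum.comap (algebraMap R T) q ∉ E := by
  classical
  obtain ⟨D, rfl⟩ := PrimeSpectrum.exists_constructibleSetData_iff.mpr hE
  have key : ∀ C ∈ D, ∃ (m : ℕ) (c : Fin C.n → A),
      algebraMap R A C.f ^ m = ∑ i, c i * algebraMap R A (C.g i) := by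
    intro C hC
    have : algebraMap R A C.f ∈ (Ideal.span (Set.range (algebraMap R A ∘ C.g))).radical := by
      rw [Ideal.radical_eq_sInf]
      refine Submodule.mem_sInf.mpr fun J ⟨hJ, hJp⟩ => not_not.mp fun hf => ?_
      refine h ⟨J, hJp⟩ (Set.mem_biUnion hC ⟨?_, ?_⟩)
      · rintro _ ⟨i, rfl⟩
        exact hJ (Ideal.subset_span ⟨i, rfl⟩)
      · exact fun hz => hf (hz (Set.mem_singleton _))
    obtain ⟨m, hm⟩ := this
    obtain ⟨c, hc⟩ := Ideal.mem_span_range_iff_exists_fun.mp hm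
    exact ⟨m, c, hc.symm⟩
  choose m c hc using key
  let t : Finset A := D.attach.biUnion fun C => Finset.univ.image (c C.1 C.2)
  refine ⟨Algebra.adjoin R ↑t, Subalgebra.fg_adjoin_finset t, fun q hq => ?_⟩
  obtain ⟨C, hC, hg, hf⟩ := Set.mem_iUnion₂.mp hq
  apply hf
  have hmem : ∀ i, c C hC i ∈ Algebra.adjoin R (↑t : Set A) := fun i => Algebra.subset_adjoin
    (Finset.mem_coe.mpr (Finset.mem_biUnion.mpr ⟨⟨C, hC⟩, Finset.mem_attach _ _,
      Finset.mem_image_of_mem _ (Finset.mem_univ i)⟩))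
  have heq : algebraMap R (Algebra.adjoin R (↑t : Set A)) C.f ^ m C hC =
      ∑ i, (⟨c C hC i, hmem i⟩ : Algebra.adjoin R (↑t : Set A)) * algebraMap R _ (C.g i) := by
    apply Subtype.val_injective
    simpa using hc C hC
  intro x hx
  rw [Set.mem_singleton_iff.mp hx]
  show algebraMap R _ C.f ∈ q.asIdeal
  refine q.2.mem_of_pow_mem (m C hC) (heq ▸ sum_mem fun i _ => Ideal.mul_mem_left _ _ (hg ⟨i, rfl⟩))

/-- A model can be refined to avoid a constructible set which the base does not meet. -/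
theorem exists_refinement {X S X₁ S₁ : Scheme.{u}} [IsAffine S] [IsAffine X₁] [IsAffine S₁]
    {f : X ⟶ S} {f₁ : X₁ ⟶ S₁} {g : S ⟶ S₁} {g' : X ⟶ X₁} (h : IsPullback g' f f₁ g)
    (hS₁ : Algebra.FiniteType ℤ Γ(S₁, ⊤)) {E : Set S₁} (hE : Topology.IsConstructible E)
    (hg : ∀ s, g s ∉ E) :
    ∃ (X₂ S₂ : Scheme.{u}) (f₂ : X₂ ⟶ S₂) (g₂ : S ⟶ S₂) (g₂' : X ⟶ X₂) (v : S₂ ⟶ S₁) (v' : X₂ ⟶ X₁),
      IsAffine X₂ ∧ IsAffine S₂ ∧ IsPullback g₂' f f₂ g₂ ∧ Algebra.FiniteType ℤ Γ(S₂, ⊤) ∧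
      IsPullback v' f₂ f₁ v ∧ ∀ s, v s ∉ E := by
  letI := g.appTop.hom.toAlgebra
  have hE' : Topology.IsConstructible (S₁.isoSpec.inv ⁻¹' E) := S₁.isoSpec.inv.isConstructible_preimage hE
  have hnat : S.isoSpec.hom ≫ Spec.map g.appTop ≫ S₁.isoSpec.inv = g := by
    rw [← Category.assoc, Scheme.isoSpec_hom_naturality, Category.assoc, Iso.hom_inv_id, Category.comp_id]
  obtain ⟨T, hT, hav⟩ := exists_stage_avoid (R := Γ(S₁, ⊤)) (A := Γ(S, ⊤))
    (E := S₁.isoSpec.inv ⁻¹' E) hE' fun p hp => by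
      obtain ⟨s, rfl⟩ := S.isoSpec.hom.surjective p
      refine hg s ?_
      rw [← hnat]
      exact hp
  let v : Spec (CommRingCat.of T) ⟶ S₁ :=
    Spec.map (CommRingCat.ofHom (algebraMap Γ(S₁, ⊤) T)) ≫ S₁.isoSpec.inv
  let g₂ : S ⟶ Spec (CommRingCat.of T) := S.isoSpec.hom ≫ Spec.map (CommRingCat.ofHom T.val.toRingHom)
  have hgv : g₂ ≫ v = g := by
    rw [← hnat]
    simp only [g₂, v, Category.assoc, ← Spec.map_comp_assoc]
    congr 3
  let g₂' : X ⟶ pullback f₁ v := pullback.lift g' (f ≫ g₂) (by rw [h.w, Category.assoc, hgv])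
  have : Algebra.FiniteType Γ(S₁, ⊤) T := T.fg_iff_finiteType.mp hT
  have : Algebra.FiniteType ℤ T := Algebra.FiniteType.trans hS₁ this
  refine ⟨pullback f₁ v, _, pullback.snd f₁ v, g₂, g₂', v, pullback.fst f₁ v, inferInstance, inferInstance,
    ?_, finiteType_top, IsPullback.of_hasPullback f₁ v, fun s => hav s⟩
  refine IsPullback.of_right ?_ (pullback.lift_snd _ _ _) (IsPullback.of_hasPullback f₁ v)
  rw [pullback.lift_fst, hgv]
  exact h

/-- **Noetherian approximation** keeping a constructible fibrewise property. -/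
theorem noetherian_approximation_of_constructible (P : ∀ {X S : Scheme.{u}}, (X ⟶ S) → S → Prop)
    (hbc : ∀ {X Y X' Y' : Scheme.{u}} {f : X ⟶ Y} {g : Y' ⟶ Y} {f' : X' ⟶ Y'} {g' : X' ⟶ X}
      [LocallyOfFiniteType f], IsPullback g' f' f g → ∀ y' : Y', P f' y' ↔ P f (g y'))
    (hcon : ∀ (A B : Type u) [CommRing A] [IsNoetherianRing A] [CommRing B] [Algebra A B]
      [Algebra.FiniteType A B],
      Topology.IsConstructible {p | P (Spec.map (CommRingCat.ofHom (algebraMap A B))) p})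
    {X S : Scheme.{u}} (f : X ⟶ S) [IsAffine X] [IsAffine S] [LocallyOfFinitePresentation f]
    (hf : ∀ s, P f s) :
    ∃ (X₀ S₀ : Scheme.{u}) (f₀ : X₀ ⟶ S₀) (g : S ⟶ S₀) (g' : X ⟶ X₀), IsAffine X₀ ∧ IsAffine S₀ ∧
      IsPullback g' f f₀ g ∧ Algebra.FiniteType ℤ Γ(S₀, ⊤) ∧ LocallyOfFiniteType f₀ ∧ ∀ s₀, P f₀ s₀ := by
  letI := f.appTop.hom.toAlgebra
  have := finitePresentation_appTop f
  obtain ⟨A₀, B₀, _, _, hA, -, hB, ⟨e⟩⟩ := exists_model Γ(S, ⊤) Γ(X, ⊤) ∅
  have : Algebra.FiniteType ℤ A₀ := A₀.fg_iff_finiteType.mp hA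
  have : IsNoetherianRing A₀ := Algebra.FiniteType.isNoetherianRing ℤ A₀
  haveI := locallyOfFiniteType_map (A₀ := A₀) (B₀ := B₀)
  obtain ⟨g, g', h⟩ := isPullback_model f A₀ B₀ e
  obtain ⟨X₂, S₂, f₂, g₂, g₂', v, v', hX₂, hS₂, h₂, hfin, hv, hav⟩ :=
    exists_refinement h finiteType_top (hcon A₀ B₀).compl fun s hs => hs ((hbc h s).mp (hf s))
  haveI : LocallyOfFiniteType f₂ := MorphismProperty.of_isPullback hv ‹_›
  exact ⟨X₂, S₂, f₂, g₂, g₂', hX₂, hS₂, h₂, hfin, inferInstance,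
    fun s => (hbc hv s).mpr (not_not.mp (hav s))⟩

end GrothLib.Approx6
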