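import Groth.Agent.Lib.Approx6.Ring
import Mathlib.RingTheory.IsTensorProduct
import Mathlib.Algebra.Module.FinitePresentation

/-!
# Models of finitely presented modules over finitely presented algebras
-/

set_option linter.style.haveILetI false

universe u

open TensorProduct

noncomputable section

namespace GrothLib.Approx6

/-- A finitely presented module over an algebra with lifting generators and relations. -/
theorem exists_base_change_of_lift {R B : Type u} [CommRing R] [CommRing B] [Algebra R B] {n m : ℕ}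
    (w : Fin m → Fin n → R) :
    Nonempty (B ⊗[R] ((Fin n → R) ⧸ Submodule.span R (Set.range w)) ≃ₗ[B]
      ((Fin n → B) ⧸ Submodule.span B (Set.range fun k i => algebraMap R B (w k i)))) := by
  classical
  let N := Submodule.span R (Set.range w)
  let N' := Submodule.span B (Set.range fun k i => algebraMap R B (w k i))
  let φ : (Fin n → R) →ₗ[R] (Fin n → B) ⧸ N' := (N'.mkQ.restrictScalars R).comp
    (LinearMap.pi fun i => (Algebra.linearMap R B).comp (LinearMap.proj i))
  have hN : N ≤ LinearMap.ker φ := by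
    rw [Submodule.span_le]
    rintro _ ⟨k, rfl⟩
    exact (Submodule.Quotient.mk_eq_zero N').mpr (Submodule.subset_span ⟨k, rfl⟩)
  let g : ((Fin n → R) ⧸ N) →ₗ[R] (Fin n → B) ⧸ N' := N.liftQ φ hN
  let G : B ⊗[R] ((Fin n → R) ⧸ N) →ₗ[B] (Fin n → B) ⧸ N' := g.liftBaseChange B
  let ψ : (Fin n → B) →ₗ[B] B ⊗[R] ((Fin n → R) ⧸ N) :=
    Fintype.linearCombination B fun i => (1 : B) ⊗ₜ N.mkQ (Pi.single i 1)
  have key : ∀ a : Fin n → R, ψ (fun i => algebraMap R B (a i)) = 1 ⊗ₜ N.mkQ a := fun a => by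
    simp only [ψ, Fintype.linearCombination_apply, algebraMap_smul, ← TensorProduct.tmul_smul,
      ← map_smul, ← TensorProduct.tmul_sum, ← map_sum]
    rw [← pi_eq_sum_univ' a]
  have hN' : N' ≤ LinearMap.ker ψ := by
    rw [Submodule.span_le]
    rintro _ ⟨k, rfl⟩
    show ψ _ = 0
    rw [key, (Submodule.Quotient.mk_eq_zero N).mpr (Submodule.subset_span ⟨k, rfl⟩) |> fun h =>
      (show N.mkQ (w k) = 0 from h), TensorProduct.tmul_zero]
  let H : ((Fin n → B) ⧸ N') →ₗ[B] B ⊗[R] ((Fin n → R) ⧸ N) := N'.liftQ ψ hN'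
  have hG : ∀ a : Fin n → R, G (1 ⊗ₜ N.mkQ a) = N'.mkQ fun i => algebraMap R B (a i) := fun a => by
    simp [G, g, φ]
    rfl
  refine ⟨LinearEquiv.ofLinear G H ?_ ?_⟩
  · refine Submodule.linearMap_qext _ ((Pi.basisFun B (Fin n)).ext fun i => ?_)
    show G (H (N'.mkQ (Pi.basisFun B (Fin n) i))) = N'.mkQ (Pi.basisFun B (Fin n) i)
    have : (Pi.basisFun B (Fin n) i) = fun j => algebraMap R B ((Pi.single i 1 : Fin n → R) j) := by
      ext j; simp [Pi.single_apply]
    rw [this, show H (N'.mkQ _) = ψ _ from rfl, key, hG]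
  · refine TensorProduct.AlgebraTensorModule.ext fun b a => ?_
    obtain ⟨a, rfl⟩ := N.mkQ_surjective a
    show H (G (b ⊗ₜ N.mkQ a)) = b ⊗ₜ N.mkQ a
    rw [show (b ⊗ₜ N.mkQ a : B ⊗[R] _) = b • (1 ⊗ₜ N.mkQ a) by simp [TensorProduct.smul_tmul'],
      map_smul, map_smul, hG, show H (N'.mkQ _) = ψ _ from rfl, key]

/-- Lifted relations give a model. -/
theorem exists_model_of_lift {R B : Type u} [CommRing R] [CommRing B] [Algebra R B]
    (M : Type u) [AddCommGroup M] [Module B M] {n m : ℕ} (K : Submodule B (Fin n → B))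
    (eM : M ≃ₗ[B] (Fin n → B) ⧸ K) (v : Fin m → Fin n → B) (hv : Submodule.span B (Set.range v) = K)
    (y : Fin m → Fin n → R) (hy : ∀ k i, algebraMap R B (y k i) = v k i) :
    ∃ (M₀ : Type u) (_ : AddCommGroup M₀) (_ : Module R M₀),
      Module.FinitePresentation R M₀ ∧ Nonempty (B ⊗[R] M₀ ≃ₗ[B] M) := by
  obtain ⟨eL⟩ := exists_base_change_of_lift (R := R) (B := B) y
  have hspan : Submodule.span B (Set.range fun k i => algebraMap R B (y k i)) = K := by
    rw [← hv]
    congr 2
    funext k i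
    exact hy k i
  exact ⟨_, inferInstance, inferInstance,
    Module.finitePresentation_of_surjective (Submodule.span R (Set.range y)).mkQ
      (Submodule.mkQ_surjective _) (by rw [Submodule.ker_mkQ]; exact Submodule.fg_span (Set.finite_range y)),
    ⟨eL.trans ((Submodule.quotEquivOfEq _ _ hspan).trans eM.symm)⟩⟩

/-- A finitely presented module over a finitely presented algebra has a model. -/
theorem exists_module_model (A B : Type u) [CommRing A] [CommRing B] [Algebra A B]
    [Algebra.FinitePresentation A B] (M : Type u) [AddCommGroup M] [Module B M]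
    [Module.FinitePresentation B M] :
    ∃ (A₀ : Type u) (_ : CommRing A₀) (_ : Algebra A₀ A) (B₀ : Type u) (_ : CommRing B₀)
      (_ : Algebra A₀ B₀) (e : A ⊗[A₀] B₀ ≃ₐ[A] B) (M₀ : Type u) (_ : AddCommGroup M₀) (_ : Module B₀ M₀),
      Algebra.FiniteType ℤ A₀ ∧ Algebra.FinitePresentation A₀ B₀ ∧ Module.FinitePresentation B₀ M₀ ∧
      letI : Algebra B₀ B :=
        (e.toRingEquiv.toRingHom.comp Algebra.TensorProduct.includeRight.toRingHom).toAlgebra
      Nonempty (B ⊗[B₀] M₀ ≃ₗ[B] M) := by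
  classical
  obtain ⟨R, B₁, _, _, hR, -, hB₁, ⟨e⟩⟩ := exists_model A B ∅
  obtain ⟨n, K, eM, hK⟩ := Module.FinitePresentation.exists_fin B M
  obtain ⟨m, v, hv⟩ := Submodule.fg_iff_exists_fin_generating_family.mp hK
  obtain ⟨S, hS, hlift⟩ := exists_stage_lift (A₀ := R) (A := A) B₁
    (Finset.univ.image fun p : Fin m × Fin n => e.symm (v p.1 p.2))
  choose y hy using fun k i => hlift _ (Finset.mem_image_of_mem _ (Finset.mem_univ ((k, i) : Fin m × Fin n)))
  let e' : A ⊗[(S : Type u)] ((S : Type u) ⊗[R] B₁) ≃ₐ[A] B :=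
    (Algebra.TensorProduct.cancelBaseChange R (S : Type u) A A B₁).trans e
  letI alg : Algebra ((S : Type u) ⊗[R] B₁) B :=
    (e'.toRingEquiv.toRingHom.comp Algebra.TensorProduct.includeRight.toRingHom).toAlgebra
  have hmap : ∀ x, algebraMap ((S : Type u) ⊗[R] B₁) B x = e (toA B₁ S x) := fun x => by
    show e (Algebra.TensorProduct.cancelBaseChange R (S : Type u) A A B₁ (1 ⊗ₜ x)) = _
    congr 1
    induction x with
    | zero => simp
    | add a b ha hb => rw [TensorProduct.tmul_add, map_add, map_add, ha, hb]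
    | tmul s b => simp [toA, Algebra.smul_def]
  obtain ⟨M₀, iM, iM', hM₀, eL⟩ := exists_model_of_lift M K eM v hv y fun k i => by
    rw [hmap, hy, AlgEquiv.apply_symm_apply]
  exact ⟨(S : Type u), inferInstance, inferInstance, (S : Type u) ⊗[R] B₁, inferInstance, inferInstance,
    e', M₀, iM, iM', finiteType_stage hR S hS, inferInstance, hM₀, eL⟩

/-- The base change of a model of a module to a stage, and its flatness. -/
theorem exists_flat_module_model (A B : Type u) [CommRing A] [CommRing B] [Algebra A B]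
    [Algebra.FinitePresentation A B] (M : Type u) [AddCommGroup M] [Module B M] [Module A M]
    [IsScalarTower A B M] [Module.FinitePresentation B M] [Module.Flat A M] :
    ∃ (A₀ : Type u) (_ : CommRing A₀) (_ : Algebra A₀ A) (B₀ : Type u) (_ : CommRing B₀)
      (_ : Algebra A₀ B₀) (e : A ⊗[A₀] B₀ ≃ₐ[A] B) (M₀ : Type u) (_ : AddCommGroup M₀) (_ : Module B₀ M₀)
      (_ : Module A₀ M₀) (_ : IsScalarTower A₀ B₀ M₀),
      Algebra.FiniteType ℤ A₀ ∧ Algebra.FinitePresentation A₀ B₀ ∧ Module.FinitePresentation B₀ M₀ ∧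
      Module.Flat A₀ M₀ ∧
      letI : Algebra B₀ B :=
        (e.toRingEquiv.toRingHom.comp Algebra.TensorProduct.includeRight.toRingHom).toAlgebra
      Nonempty (B ⊗[B₀] M₀ ≃ₗ[B] M) := by
  classical
  obtain ⟨A₀, _, _, B₀, _, _, e, M₀, _, _, hA₀, hB₀, hM₀, ⟨eM⟩⟩ := exists_module_model A B M
  letI algB : Algebra B₀ B :=
    (e.toRingEquiv.toRingHom.comp Algebra.TensorProduct.includeRight.toRingHom).toAlgebra
  letI : Module A₀ M₀ := Module.compHom M₀ (algebraMap A₀ B₀)
  haveI : IsScalarTower A₀ B₀ M₀ := IsScalarTower.of_algebraMap_smul fun _ _ => rfl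
  letI : Algebra A₀ B := ((algebraMap A B).comp (algebraMap A₀ A)).toAlgebra
  haveI : IsScalarTower A₀ A B := IsScalarTower.of_algebraMap_eq fun _ => rfl
  haveI : IsScalarTower A₀ B₀ B := IsScalarTower.of_algebraMap_eq fun x => by
    show algebraMap A B (algebraMap A₀ A x) = e (1 ⊗ₜ algebraMap A₀ B₀ x)
    rw [← e.commutes]
    congr 1
    exact ((Algebra.TensorProduct.includeRight : B₀ →ₐ[A₀] A ⊗[A₀] B₀).commutes x).symm
  haveI : Algebra.IsPushout A₀ A B₀ B := by
    refine ⟨IsBaseChange.of_equiv e.toLinearEquiv fun x => ?_⟩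
    rfl
  let eA : B ⊗[B₀] M₀ ≃ₗ[A] A ⊗[A₀] M₀ := Algebra.IsPushout.cancelBaseChange A₀ A B₀ B M₀
  have : Module.Flat A (A ⊗[A₀] M₀) :=
    Module.Flat.of_linearEquiv (eA.symm.trans (eM.restrictScalars A))
  let ι := {T : Subalgebra A₀ A // T.FG}
  obtain ⟨⟨T, hT⟩, hflat⟩ := GrothLib.FlatLimit.exists_stage_flat (A₀ := A₀) (A := A)
    (fun T : ι => (T.1 : Type u))
    (fun i i' => ⟨⟨i.1 ⊔ i'.1, i.2.sup i'.2⟩, Subalgebra.inclusion le_sup_left,
      Subalgebra.inclusion le_sup_right, fun _ => rfl, fun _ => rfl⟩)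
    (fun F => ⟨⟨Algebra.adjoin A₀ (F : Set A), Subalgebra.fg_adjoin_finset F⟩,
      fun a ha => ⟨⟨a, Algebra.subset_adjoin ha⟩, rfl⟩⟩)
    (fun i p hp => ⟨i, AlgHom.id A₀ _, fun _ => rfl, fun x hx => Subtype.ext (hp x hx)⟩)
    B₀ M₀
  have : Algebra.FiniteType A₀ (T : Type u) := T.fg_iff_finiteType.mp hT
  have hT' : Algebra.FiniteType ℤ (T : Type u) := Algebra.FiniteType.trans (S := A₀) hA₀ inferInstance
  let C := (T : Type u) ⊗[A₀] B₀
  letI algC : Algebra B₀ C := Algebra.TensorProduct.rightAlgebra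
  let e' : A ⊗[(T : Type u)] C ≃ₐ[A] B :=
    (Algebra.TensorProduct.cancelBaseChange A₀ (T : Type u) A A B₀).trans e
  letI : Algebra C B :=
    (e'.toRingEquiv.toRingHom.comp Algebra.TensorProduct.includeRight.toRingHom).toAlgebra
  haveI : IsScalarTower B₀ C B := IsScalarTower.of_algebraMap_eq fun x => by
    show e (1 ⊗ₜ x) = e (Algebra.TensorProduct.cancelBaseChange A₀ (T : Type u) A A B₀ (1 ⊗ₜ (1 ⊗ₜ x)))
    simp
  have : Module.Flat (T : Type u) (C ⊗[B₀] M₀) :=
    Module.Flat.of_linearEquiv (Algebra.IsPushout.cancelBaseChange A₀ (T : Type u) B₀ C M₀)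
  exact ⟨(T : Type u), inferInstance, inferInstance, C, inferInstance, inferInstance, e',
    C ⊗[B₀] M₀, inferInstance, inferInstance, inferInstance, inferInstance, hT', inferInstance,
    inferInstance, this,
    ⟨(TensorProduct.AlgebraTensorModule.cancelBaseChange B₀ C B B M₀).trans eM⟩⟩

end GrothLib.Approx6
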