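import Groth.Agent.Lib.Approx6.Scheme
import Groth.Agent.Lib.Approx6.ModuleRing
import Groth.Agent.Lib.OX.TildeBaseChange
import Groth.Agent.Lib.QCoh.TildeFinite
import Groth.Agent.Lib.FittSheaf.PullbackFP
import Groth.Agent.Lib.VA.QCohPullback
import Groth.Agent.Lib.BCCoh.Flat
import Groth.Agent.Lib.FlatFP.BaseChangeAt
import Groth.Agent.Lib.FlatFP.InjCokerSheaf

/-!
# Noetherian models of finitely presented modules on affine schemes
-/

set_option linter.style.haveILetI false

universe u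

open CategoryTheory Limits AlgebraicGeometry TensorProduct

noncomputable section

namespace GrothLib.Approx6

/-- The cartesian square of a model, with the comparison morphism made explicit. -/
theorem isPullback_model' {X S : Scheme.{u}} (f : X ⟶ S) [IsAffine X] [IsAffine S]
    (A₀ B₀ : Type u) [CommRing A₀] [CommRing B₀] [Algebra A₀ Γ(S, ⊤)] [Algebra A₀ B₀]
    (e : letI := f.appTop.hom.toAlgebra; Γ(S, ⊤) ⊗[A₀] B₀ ≃ₐ[Γ(S, ⊤)] Γ(X, ⊤)) :
    letI := f.appTop.hom.toAlgebra
    ∃ (g : S ⟶ Spec (CommRingCat.of A₀)),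
      IsPullback (X.isoSpec.hom ≫ Spec.map (CommRingCat.ofHom
        (e.toRingEquiv.toRingHom.comp Algebra.TensorProduct.includeRight.toRingHom)))
        f (Spec.map (CommRingCat.ofHom (algebraMap A₀ B₀))) g := by
  letI := f.appTop.hom.toAlgebra
  have h := isPullback_SpecMap_of_isPushout _ _ _ _
    (CommRingCat.isPushout_tensorProduct A₀ Γ(S, ⊤) B₀).flip
  let i : X ⟶ Spec (CommRingCat.of (Γ(S, ⊤) ⊗[A₀] B₀)) :=
    X.isoSpec.hom ≫ Spec.map e.toRingEquiv.toCommRingCatIso.hom
  have : IsIso i := inferInstance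
  have sq : IsPullback i f (Spec.map (CommRingCat.ofHom
      (Algebra.TensorProduct.includeLeftRingHom : Γ(S, ⊤) →+* Γ(S, ⊤) ⊗[A₀] B₀))) S.isoSpec.hom := by
    refine IsPullback.of_horiz_isIso ⟨?_⟩
    rw [Category.assoc, ← Spec.map_comp,
      show CommRingCat.ofHom (Algebra.TensorProduct.includeLeftRingHom :
        Γ(S, ⊤) →+* Γ(S, ⊤) ⊗[A₀] B₀) ≫ e.toRingEquiv.toCommRingCatIso.hom = f.appTop from
        CommRingCat.hom_ext (RingHom.ext e.commutes)]
    exact Scheme.isoSpec_hom_naturality f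
  refine ⟨S.isoSpec.hom ≫ Spec.map (CommRingCat.ofHom (algebraMap A₀ Γ(S, ⊤))), ?_⟩
  convert sq.paste_horiz h using 1
  simp only [i, Category.assoc, ← Spec.map_comp]
  rfl

/-- Finite presentation of global sections over the ring of an affine scheme. -/
theorem finitePresentation_top {R : CommRingCat.{u}} (N : (Spec R).Modules) [N.IsQuasicoherent]
    (hN : CohB1.IsFP N) : Module.FinitePresentation R Γ(N, ⊤) := by
  have := FlatFP.finitePresentation_sections N hN (isAffineOpen_top (Spec R))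
  have hb : Function.Bijective (algebraMap R Γ(Spec R, ⊤)) := by
    have : algebraMap R Γ(Spec R, ⊤) = (Scheme.ΓSpecIso R).inv.hom := by
      refine RingHom.ext fun r => ?_
      show (Spec R).presheaf.map ((⊤ : (Spec R).Opens).leTop).op ((Scheme.ΓSpecIso R).inv r) = _
      rw [show ((⊤ : (Spec R).Opens).leTop).op = 𝟙 _ from rfl]
      simp
    rw [this]
    exact ConcreteCategory.bijective_of_isIso (Scheme.ΓSpecIso R).inv
  have : Module.FinitePresentation R Γ(Spec R, ⊤) :=
    Module.FinitePresentation.of_equiv (LinearEquiv.ofBijective (Algebra.linearMap R Γ(Spec R, ⊤)) hb)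
  exact Module.FinitePresentation.trans R Γ(N, ⊤) Γ(Spec R, ⊤)

/-- Flatness over the base of a quasi-coherent module on an affine scheme, on global sections. -/
theorem isFlatOver_top_iff {R C : CommRingCat.{u}} (φ : R ⟶ C) (N : (Spec C).Modules) [N.IsQuasicoherent] :
    FlatMod.IsFlatOver (Spec.map φ) N ↔
      (letI : Module R Γ(N, ⊤) := Module.compHom _ φ.hom; Module.Flat R Γ(N, ⊤)) := by
  let R' := Γ(Spec R, ⊤)
  let C' := Γ(Spec C, ⊤)
  letI iR : Module R Γ(N, ⊤) := Module.compHom _ φ.hom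
  letI : Algebra R' C' := ((Spec.map φ).appLE ⊤ ⊤ le_top).hom.toAlgebra
  letI iR' : Module R' Γ(N, ⊤) := Module.compHom _ (algebraMap R' C')
  haveI : IsScalarTower R' C' Γ(N, ⊤) := IsScalarTower.of_algebraMap_smul fun _ _ => rfl
  let σ : R ≃+* R' := (Scheme.ΓSpecIso R).symm.commRingCatIsoToRingEquiv
  have key : ∀ (r : R) (x : Γ(N, ⊤)), σ r • x = r • x := fun r x => by
    show ((Spec.map φ).appLE ⊤ ⊤ le_top) ((Scheme.ΓSpecIso R).inv r) • x = φ r • x
    rw [Scheme.Modules.smul_Spec_def, show ((⊤ : (Spec C).Opens).leTop).op = 𝟙 _ from rfl]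
    congr 1
    have : ((Spec.map φ).appLE ⊤ ⊤ le_top) = (Spec.map φ).appTop := by
      simp [Scheme.Hom.appLE]
    rw [this]
    exact (ConcreteCategory.congr_hom (Scheme.ΓSpecIso_inv_naturality φ) r).symm
  have hflat : Module.Flat R' Γ(N, ⊤) ↔ Module.Flat R Γ(N, ⊤) := by
    constructor
    · intro h
      letI : Algebra R R' := σ.toRingHom.toAlgebra
      haveI : IsScalarTower R R' Γ(N, ⊤) := IsScalarTower.of_algebraMap_smul key
      haveI : Module.Flat R R' := RingHom.flat_algebraMap_iff.mp (RingHom.Flat.of_bijective σ.bijective)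
      exact Module.Flat.trans R R' _
    · intro h
      letI : Algebra R' R := σ.symm.toRingHom.toAlgebra
      haveI : IsScalarTower R' R Γ(N, ⊤) := IsScalarTower.of_algebraMap_smul fun r x => by
        show σ.symm r • x = r • x
        rw [← key, RingEquiv.apply_symm_apply]
      haveI : Module.Flat R' R := RingHom.flat_algebraMap_iff.mp (RingHom.Flat.of_bijective σ.symm.bijective)
      exact Module.Flat.trans R' R _
  rw [← hflat]
  constructor
  · intro h
    exact BCCoh.flat_sections (Spec.map φ) N h (isAffineOpen_top _) (isAffineOpen_top _) le_top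
  · intro h x
    rw [FlatFP.isFlatOverAt_iff (Spec.map φ) N (isAffineOpen_top _) (isAffineOpen_top _) le_top
      (show x ∈ (⊤ : (Spec C).Opens) from trivial) rfl]
    exact FlatModel.flat_localizedModule _

section

variable {X : Scheme.{u}} [IsAffine X] (F : X.Modules)

/-- The transport of a module to the spectrum of the ring of global sections. -/
abbrev transport : (Spec Γ(X, ⊤)).Modules := (Scheme.Modules.pullback X.isoSpec.inv).obj F

/-- Going back from the spectrum. -/
def transportIso : (Scheme.Modules.pullback X.isoSpec.hom).obj (transport F) ≅ F :=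
  (Scheme.Modules.pullbackComp X.isoSpec.hom X.isoSpec.inv).app F ≪≫
    (Scheme.Modules.pullbackCongr X.isoSpec.hom_inv_id).app F ≪≫ (Scheme.Modules.pullbackId X).app F

theorem pullback_tilde_iso [F.IsQuasicoherent] {B₀ : Type u} [CommRing B₀] (φ : B₀ →+* Γ(X, ⊤))
    (M₀ : Type u) [AddCommGroup M₀] [Module B₀ M₀]
    (e : letI := φ.toAlgebra; Γ(X, ⊤) ⊗[B₀] M₀ ≃ₗ[Γ(X, ⊤)] Γ(transport F, ⊤)) :
    Nonempty ((Scheme.Modules.pullback (X.isoSpec.hom ≫ Spec.map (CommRingCat.ofHom φ))).obj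
      ((tilde.functor (CommRingCat.of B₀)).obj (ModuleCat.of B₀ M₀)) ≅ F) := by
  letI := φ.toAlgebra
  have hq : (transport F).IsQuasicoherent := VA.isQCoh_pullback _ ‹_›
  have hiso := @Scheme.Modules.isIso_fromTildeΓ_of_isQuasicoherent Γ(X, ⊤) (transport F) hq
  let e₁ : (ModuleCat.extendScalars φ).obj (ModuleCat.of B₀ M₀) ≅
      (moduleSpecΓFunctor (R := Γ(X, ⊤))).obj (transport F) :=
    LinearEquiv.toModuleIso e
  exact ⟨((Scheme.Modules.pullbackComp X.isoSpec.hom (Spec.map (CommRingCat.ofHom φ))).app _).symm ≪≫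
    (Scheme.Modules.pullback X.isoSpec.hom).mapIso
      ((OX.tildePullIso φ).app (ModuleCat.of B₀ M₀) ≪≫ (tilde.functor Γ(X, ⊤)).mapIso e₁ ≪≫
        @asIso _ _ _ _ (transport F).fromTildeΓ hiso) ≪≫ transportIso F⟩

end

/-- The coherent module of a finite module over a finitely generated ring. -/
theorem isCoh_model {B₀ : Type u} [CommRing B₀] (M₀ : Type u) [AddCommGroup M₀] [Module B₀ M₀]
    [Module.Finite B₀ M₀] : Coh.IsCoh ((tilde.functor (CommRingCat.of B₀)).obj (ModuleCat.of B₀ M₀)) :=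
  have : Module.Finite (CommRingCat.of B₀) (ModuleCat.of B₀ M₀) := ‹Module.Finite B₀ M₀›
  QCoh.isCoh_tilde_of_finite (R := CommRingCat.of B₀) (ModuleCat.of B₀ M₀)

/-- A flat module gives a sheaf flat over the base. -/
theorem isFlatOver_tilde' {R C : CommRingCat.{u}} (φ : R ⟶ C) (M : ModuleCat.{u} C) [Module R M]
    (hc : ∀ (r : R) (m : M), r • m = φ r • m) [Module.Flat R M] :
    FlatMod.IsFlatOver (Spec.map φ) (tilde M) := by
  refine (isFlatOver_top_iff φ (tilde M)).mpr ?_
  letI iN : Module R Γ(tilde M, ⊤) := Module.compHom _ φ.hom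
  let eN := (tilde.isoTop M).toLinearEquiv
  let e' : Γ(tilde M, ⊤) ≃ₗ[R] M :=
    { toFun := fun x => eN.symm x
      invFun := fun x => eN x
      left_inv := eN.apply_symm_apply
      right_inv := eN.symm_apply_apply
      map_add' := map_add eN.symm
      map_smul' := fun a x => (eN.symm.map_smul (φ a) x).trans (hc a _).symm }
  exact Module.Flat.of_linearEquiv e'

/-- Noetherian approximation of a finitely presented module. -/
theorem noetherian_approximation_module {X S : Scheme.{u}} (f : X ⟶ S) [IsAffine X] [IsAffine S]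
    [LocallyOfFinitePresentation f] (F : X.Modules) [F.IsQuasicoherent] (hF : CohB1.IsFP F) :
    ∃ (X₀ S₀ : Scheme.{u}) (f₀ : X₀ ⟶ S₀) (g : S ⟶ S₀) (g' : X ⟶ X₀), IsAffine X₀ ∧ IsAffine S₀ ∧
      IsPullback g' f f₀ g ∧ Algebra.FiniteType ℤ Γ(S₀, ⊤) ∧ LocallyOfFiniteType f₀ ∧
      ∃ F₀ : X₀.Modules, Coh.IsCoh F₀ ∧ Nonempty ((Scheme.Modules.pullback g').obj F₀ ≅ F) := by
  letI := f.appTop.hom.toAlgebra
  have := finitePresentation_appTop f
  have hq : (transport F).IsQuasicoherent := VA.isQCoh_pullback _ ‹_›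
  have := finitePresentation_top (transport F) (FittSheaf.isFP_pullback _ F hF)
  obtain ⟨A₀, _, _, B₀, _, _, e, M₀, _, _, hA, hB, hM, ⟨eM⟩⟩ :=
    exists_module_model Γ(S, ⊤) Γ(X, ⊤) Γ(transport F, ⊤)
  obtain ⟨g, h⟩ := isPullback_model' f A₀ B₀ e
  exact ⟨_, _, _, g, _, inferInstance, inferInstance, h, finiteType_top, locallyOfFiniteType_map,
    _, isCoh_model M₀, pullback_tilde_iso F _ M₀ eM⟩

/-- Noetherian approximation of a flat finitely presented module. -/
theorem noetherian_approximation_flat_module {X S : Scheme.{u}} (f : X ⟶ S) [IsAffine X] [IsAffine S]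
    [LocallyOfFinitePresentation f] (F : X.Modules) [F.IsQuasicoherent] (hF : CohB1.IsFP F)
    (hfl : FlatMod.IsFlatOver f F) :
    ∃ (X₀ S₀ : Scheme.{u}) (f₀ : X₀ ⟶ S₀) (g : S ⟶ S₀) (g' : X ⟶ X₀), IsAffine X₀ ∧ IsAffine S₀ ∧
      IsPullback g' f f₀ g ∧ Algebra.FiniteType ℤ Γ(S₀, ⊤) ∧ LocallyOfFiniteType f₀ ∧
      ∃ F₀ : X₀.Modules, Coh.IsCoh F₀ ∧ FlatMod.IsFlatOver f₀ F₀ ∧
        Nonempty ((Scheme.Modules.pullback g').obj F₀ ≅ F) := by
  letI := f.appTop.hom.toAlgebra
  have := finitePresentation_appTop f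
  have hq : (transport F).IsQuasicoherent := VA.isQCoh_pullback _ ‹_›
  have := finitePresentation_top (transport F) (FittSheaf.isFP_pullback _ F hF)
  letI : Module Γ(S, ⊤) Γ(transport F, ⊤) := Module.compHom _ f.appTop.hom
  haveI : IsScalarTower Γ(S, ⊤) Γ(X, ⊤) Γ(transport F, ⊤) := IsScalarTower.of_algebraMap_smul fun _ _ => rfl
  haveI : Module.Flat Γ(S, ⊤) Γ(transport F, ⊤) := (isFlatOver_top_iff f.appTop (transport F)).mp fun x =>
    FlatFP.isFlatOverAt_baseChange f (Spec.map f.appTop) X.isoSpec.inv S.isoSpec.inv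
      (IsPullback.of_horiz_isIso ⟨(Scheme.isoSpec_inv_naturality f).symm⟩) F x (hfl _)
  obtain ⟨A₀, _, _, B₀, _, _, e, M₀, _, _, iA, iT, hA, hB, hM, hflat, ⟨eM⟩⟩ :=
    exists_flat_module_model Γ(S, ⊤) Γ(X, ⊤) Γ(transport F, ⊤)
  obtain ⟨g, h⟩ := isPullback_model' f A₀ B₀ e
  exact ⟨_, _, _, g, _, inferInstance, inferInstance, h, finiteType_top, locallyOfFiniteType_map,
    _, isCoh_model M₀, @isFlatOver_tilde' (CommRingCat.of A₀) (CommRingCat.of B₀) (CommRingCat.ofHom (algebraMap A₀ B₀))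
      (ModuleCat.of B₀ M₀) iA (fun r m => (algebraMap_smul B₀ r m).symm) hflat, pullback_tilde_iso F _ M₀ eM⟩

end GrothLib.Approx6
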