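import Groth.Agent.Lib.FlatLimit.Vanish
import Groth.Agent.Lib.FlatLimit.Global
import Mathlib.RingTheory.Extension.Presentation.Core
import Mathlib.RingTheory.Adjoin.Tower
import Mathlib.RingTheory.FinitePresentation
import Mathlib.RingTheory.TensorProduct.MvPolynomial

/-!
# Models over finitely generated subrings; descent of isomorphisms between models
-/

universe u

open TensorProduct

noncomputable section

namespace GrothLib.Approx6

variable {A₀ A : Type u} [CommRing A₀] [CommRing A] [Algebra A₀ A]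
variable (P Q : Type u) [CommRing P] [Algebra A₀ P] [CommRing Q] [Algebra A₀ Q]

/-- Change of stage. -/
def mapQ {S T : Subalgebra A₀ A} (h : S ≤ T) : (S : Type u) ⊗[A₀] Q →ₐ[A₀] (T : Type u) ⊗[A₀] Q :=
  Algebra.TensorProduct.map (Subalgebra.inclusion h) (AlgHom.id A₀ Q)

/-- The map from a stage to the top. -/
def toA (S : Subalgebra A₀ A) : (S : Type u) ⊗[A₀] Q →ₐ[A₀] A ⊗[A₀] Q :=
  Algebra.TensorProduct.map S.val (AlgHom.id A₀ Q)

theorem toA_mapQ {S T : Subalgebra A₀ A} (h : S ≤ T) (x : (S : Type u) ⊗[A₀] Q) :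
    toA Q T (mapQ Q h x) = toA Q S x := by
  have : (toA Q T).comp (mapQ Q h) = toA Q S :=
    Algebra.TensorProduct.ext (by ext; rfl) (by ext; rfl)
  exact congr($this x)

theorem mapQ_mapQ {S T V : Subalgebra A₀ A} (h : S ≤ T) (h' : T ≤ V) (x : (S : Type u) ⊗[A₀] Q) :
    mapQ Q h' (mapQ Q h x) = mapQ Q (h.trans h') x := by
  have : (mapQ Q h').comp (mapQ Q h) = mapQ Q (h.trans h') :=
    Algebra.TensorProduct.ext (by ext; rfl) (by ext; rfl)
  exact congr($this x)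

theorem exists_stage_lift (s : Finset (A ⊗[A₀] Q)) :
    ∃ S : Subalgebra A₀ A, S.FG ∧ ∀ x ∈ s, x ∈ Set.range (toA Q S) := by
  classical
  choose T hT using fun x : A ⊗[A₀] Q => TensorProduct.exists_finset x
  refine ⟨Algebra.adjoin A₀ (↑(s.biUnion fun x => (T x).image Prod.fst) : Set A),
    Subalgebra.fg_adjoin_finset _, fun x hx => ?_⟩
  rw [hT x, ← AlgHom.coe_range]
  refine Subalgebra.sum_mem _ fun p hp => ?_
  have hmem : p.1 ∈ Algebra.adjoin A₀ (↑(s.biUnion fun x => (T x).image Prod.fst) : Set A) :=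
    Algebra.subset_adjoin (Finset.mem_coe.mpr (Finset.mem_biUnion.mpr ⟨x, hx, Finset.mem_image_of_mem _ hp⟩))
  exact ⟨(⟨p.1, hmem⟩ : Algebra.adjoin A₀ _) ⊗ₜ p.2, rfl⟩

theorem exists_stage_eq_zero {S : Subalgebra A₀ A} (hS : S.FG) (x : (S : Type u) ⊗[A₀] Q)
    (hx : toA Q S x = 0) :
    ∃ (T : Subalgebra A₀ A) (h : S ≤ T), T.FG ∧ mapQ Q h x = 0 := by
  classical
  let ι := {T : Subalgebra A₀ A // T.FG}
  obtain ⟨⟨T, hT⟩, ψ, hψ, h0⟩ := GrothLib.FlatLimit.exists_stage_tmul_eq_zero (A := A)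
    (G := fun T : ι => (T.1 : Type u))
    (fun i i' => ⟨⟨i.1 ⊔ i'.1, i.2.sup i'.2⟩, Subalgebra.inclusion le_sup_left,
      Subalgebra.inclusion le_sup_right, fun _ => rfl, fun _ => rfl⟩)
    (fun F => ⟨⟨Algebra.adjoin A₀ (F : Set A), Subalgebra.fg_adjoin_finset F⟩,
      fun a ha => ⟨⟨a, Algebra.subset_adjoin ha⟩, rfl⟩⟩)
    (fun i p hp => ⟨i, AlgHom.id A₀ _, fun _ => rfl, fun x hx => Subtype.ext (hp x hx)⟩)
    (M := Q) (⟨S, hS⟩ : ι) x (by
      rw [← hx]
      exact congr($(show (IsScalarTower.toAlgHom A₀ (S : Type u) A).toLinearMap.rTensor Q =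
        (toA Q S).toLinearMap from TensorProduct.ext' fun a q => rfl) x))
  have hle : S ≤ T := fun a ha => by
    have h := hψ ⟨a, ha⟩
    exact (show ((ψ ⟨a, ha⟩ : T) : A) = a from h) ▸ (ψ ⟨a, ha⟩).2
  refine ⟨T, hle, hT, ?_⟩
  rw [← h0]
  have : ψ = Subalgebra.inclusion hle := AlgHom.ext fun a => Subtype.ext (hψ a)
  subst this
  exact congr($(show (mapQ Q hle).toLinearMap = (Subalgebra.inclusion hle).toLinearMap.rTensor Q from
    TensorProduct.ext' fun a q => rfl) x)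

theorem exists_stage_eq_zero_finset {S : Subalgebra A₀ A} (hS : S.FG)
    (s : Finset ((S : Type u) ⊗[A₀] Q)) (hs : ∀ x ∈ s, toA Q S x = 0) :
    ∃ (T : Subalgebra A₀ A) (h : S ≤ T), T.FG ∧ ∀ x ∈ s, mapQ Q h x = 0 := by
  classical
  induction s using Finset.induction_on with
  | empty => exact ⟨S, le_rfl, hS, by simp⟩
  | insert a s _ ih =>
    obtain ⟨T, h, hT, hTs⟩ := ih fun x hx => hs x (Finset.mem_insert_of_mem hx)
    obtain ⟨V, h', hV, hVa⟩ := exists_stage_eq_zero Q hT (mapQ Q h a)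
      (by rw [toA_mapQ]; exact hs a (Finset.mem_insert_self a s))
    refine ⟨V, h.trans h', hV, fun x hx => ?_⟩
    rw [← mapQ_mapQ Q h h']
    rcases Finset.mem_insert.mp hx with rfl | hx
    · exact hVa
    · rw [hTs x hx, map_zero]

variable {P Q}

/-- Homomorphisms out of a finitely presented algebra descend to a stage. -/
theorem exists_stage_hom [Algebra.FinitePresentation A₀ P] (φ : P →ₐ[A₀] A ⊗[A₀] Q) :
    ∃ (S : Subalgebra A₀ A) (h : P →ₐ[A₀] (S : Type u) ⊗[A₀] Q),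
      S.FG ∧ (toA Q S).comp h = φ := by
  classical
  obtain ⟨n, π, hπ, hker⟩ := Algebra.FinitePresentation.out (R := A₀) (A := P)
  obtain ⟨r, hr⟩ := hker
  obtain ⟨S, hS, hlift⟩ := exists_stage_lift Q (Finset.univ.image fun i => φ (π (MvPolynomial.X i)))
  choose y hy using fun i => hlift _ (Finset.mem_image_of_mem _ (Finset.mem_univ i))
  let h₀ : MvPolynomial (Fin n) A₀ →ₐ[A₀] (S : Type u) ⊗[A₀] Q := MvPolynomial.aeval y
  have h₀φ : (toA Q S).comp h₀ = φ.comp π :=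
    MvPolynomial.algHom_ext fun i => by simp [h₀, hy]
  obtain ⟨T, hle, hT, h0⟩ := exists_stage_eq_zero_finset Q hS (r.image h₀) fun x hx => by
    obtain ⟨p, hp, rfl⟩ := Finset.mem_image.mp hx
    have : p ∈ RingHom.ker π.toRingHom := hr ▸ Ideal.subset_span hp
    exact congr($h₀φ p).trans (by rw [AlgHom.comp_apply, show π p = 0 from this, map_zero])
  have hk : RingHom.ker π.toRingHom ≤ RingHom.ker ((mapQ Q hle).comp h₀).toRingHom := by
    rw [← hr, Submodule.span_le]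
    exact fun p hp => h0 _ (Finset.mem_image_of_mem _ hp)
  refine ⟨T, AlgHom.liftOfSurjective π hπ ((mapQ Q hle).comp h₀) hk, hT, ?_⟩
  rw [← AlgHom.cancel_right hπ, AlgHom.comp_assoc, AlgHom.liftOfSurjective_comp]
  rw [← h₀φ]
  exact AlgHom.ext fun p => toA_mapQ Q hle _

/-- Two homomorphisms agreeing at the top agree at a stage. -/
theorem exists_stage_hom_eq [Algebra.FiniteType A₀ P] {S : Subalgebra A₀ A} (hS : S.FG)
    (a b : P →ₐ[A₀] (S : Type u) ⊗[A₀] Q) (h : (toA Q S).comp a = (toA Q S).comp b) :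
    ∃ (T : Subalgebra A₀ A) (hle : S ≤ T), T.FG ∧ (mapQ Q hle).comp a = (mapQ Q hle).comp b := by
  classical
  obtain ⟨n, π, hπ⟩ := Algebra.FiniteType.iff_quotient_mvPolynomial''.mp (‹_› : Algebra.FiniteType A₀ P)
  obtain ⟨T, hle, hT, h0⟩ := exists_stage_eq_zero_finset Q hS
    (Finset.univ.image fun i => a (π (MvPolynomial.X i)) - b (π (MvPolynomial.X i))) fun x hx => by
      obtain ⟨i, -, rfl⟩ := Finset.mem_image.mp hx
      rw [map_sub, sub_eq_zero]
      exact congr($h (π (MvPolynomial.X i)))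
  refine ⟨T, hle, hT, ?_⟩
  rw [← AlgHom.cancel_right hπ]
  refine MvPolynomial.algHom_ext fun i => ?_
  have := h0 _ (Finset.mem_image_of_mem _ (Finset.mem_univ i))
  rwa [map_sub, sub_eq_zero] at this

/-- Extension of scalars of a stage homomorphism. -/
def extend {S : Subalgebra A₀ A} (h : P →ₐ[A₀] (S : Type u) ⊗[A₀] Q) :
    (S : Type u) ⊗[A₀] P →ₐ[(S : Type u)] (S : Type u) ⊗[A₀] Q :=
  Algebra.TensorProduct.lift (Algebra.TensorProduct.includeLeft) h fun _ _ => Commute.all _ _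

theorem extend_one_tmul {S : Subalgebra A₀ A} (h : P →ₐ[A₀] (S : Type u) ⊗[A₀] Q) (p : P) :
    extend h (1 ⊗ₜ p) = h p := by
  simp [extend, ← Algebra.TensorProduct.one_def]

theorem mapQ_extend {S T : Subalgebra A₀ A} (hle : S ≤ T) (h : P →ₐ[A₀] (S : Type u) ⊗[A₀] Q)
    (x : (S : Type u) ⊗[A₀] P) :
    mapQ Q hle (extend h x) = extend ((mapQ Q hle).comp h) (mapQ P hle x) := by
  induction x with
  | zero => simp
  | add x y hx hy => simp only [map_add, hx, hy]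
  | tmul s p => simp [extend, mapQ]

theorem toA_extend {S : Subalgebra A₀ A} (h : P →ₐ[A₀] (S : Type u) ⊗[A₀] Q)
    (e : A ⊗[A₀] P →ₐ[A] A ⊗[A₀] Q) (he : ∀ p, e (1 ⊗ₜ p) = toA Q S (h p))
    (x : (S : Type u) ⊗[A₀] P) : toA Q S (extend h x) = e (toA P S x) := by
  induction x with
  | zero => simp
  | add x y hx hy => simp only [map_add, hx, hy]
  | tmul s p =>
    rw [show toA P S (s ⊗ₜ p) = (s : A) • (1 ⊗ₜ p : A ⊗[A₀] P) by simp [toA, TensorProduct.smul_tmul'],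
      map_smul, he]
    simp [extend, toA, Algebra.smul_def]

/-- Isomorphisms of finitely presented models descend to a stage. -/
theorem exists_stage_algEquiv [Algebra.FinitePresentation A₀ P] [Algebra.FinitePresentation A₀ Q]
    (e : A ⊗[A₀] P ≃ₐ[A] A ⊗[A₀] Q) :
    ∃ S : Subalgebra A₀ A, S.FG ∧ Nonempty ((S : Type u) ⊗[A₀] P ≃ₐ[(S : Type u)] (S : Type u) ⊗[A₀] Q) := by
  obtain ⟨S₁, h₁, hS₁, hh₁⟩ := exists_stage_hom (A := A) (P := P) (Q := Q)
    ((e.toAlgHom.restrictScalars A₀).comp Algebra.TensorProduct.includeRight)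
  obtain ⟨S₂, h₂, hS₂, hh₂⟩ := exists_stage_hom (A := A) (P := Q) (Q := P)
    ((e.symm.toAlgHom.restrictScalars A₀).comp Algebra.TensorProduct.includeRight)
  let g₁ : P →ₐ[A₀] ((S₁ ⊔ S₂ : Subalgebra A₀ A) : Type u) ⊗[A₀] Q := (mapQ Q le_sup_left).comp h₁
  let g₂ : Q →ₐ[A₀] ((S₁ ⊔ S₂ : Subalgebra A₀ A) : Type u) ⊗[A₀] P := (mapQ P le_sup_right).comp h₂
  have he₁ : ∀ p, e (1 ⊗ₜ p) = toA Q (S₁ ⊔ S₂) (g₁ p) := fun p =>
    ((toA_mapQ Q _ _).trans congr($hh₁ p)).symm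
  have he₂ : ∀ q, e.symm (1 ⊗ₜ q) = toA P (S₁ ⊔ S₂) (g₂ q) := fun q =>
    ((toA_mapQ P _ _).trans congr($hh₂ q)).symm
  obtain ⟨T₁, l₁, hT₁, hE₁⟩ := exists_stage_hom_eq (A := A) (P := P) (Q := P) (hS₁.sup hS₂)
    (((extend g₂).restrictScalars A₀).comp g₁) Algebra.TensorProduct.includeRight (by
      refine AlgHom.ext fun p => ?_
      show toA P (S₁ ⊔ S₂) (extend g₂ (g₁ p)) = toA P (S₁ ⊔ S₂) (1 ⊗ₜ p)
      rw [toA_extend g₂ e.symm.toAlgHom he₂, ← he₁]
      simp [toA])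
  obtain ⟨T₂, l₂, hT₂, hE₂⟩ := exists_stage_hom_eq (A := A) (P := Q) (Q := Q) (hS₁.sup hS₂)
    (((extend g₁).restrictScalars A₀).comp g₂) Algebra.TensorProduct.includeRight (by
      refine AlgHom.ext fun p => ?_
      show toA Q (S₁ ⊔ S₂) (extend g₁ (g₂ p)) = toA Q (S₁ ⊔ S₂) (1 ⊗ₜ p)
      rw [toA_extend g₁ e.toAlgHom he₁, ← he₂]
      simp [toA])
  let F₁ := extend ((mapQ Q (l₁.trans (le_sup_left : T₁ ≤ T₁ ⊔ T₂))).comp g₁)
  let F₂ := extend ((mapQ P (l₁.trans (le_sup_left : T₁ ≤ T₁ ⊔ T₂))).comp g₂)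
  refine ⟨T₁ ⊔ T₂, hT₁.sup hT₂, ⟨AlgEquiv.ofAlgHom F₁ F₂ ?_ ?_⟩⟩
  · refine Algebra.TensorProduct.ext (Subsingleton.elim _ _) (AlgHom.ext fun q => ?_)
    show F₁ (F₂ (1 ⊗ₜ q)) = 1 ⊗ₜ q
    simp only [F₂, F₁, extend_one_tmul, AlgHom.comp_apply]
    rw [← mapQ_extend]
    rw [show l₁.trans (le_sup_left : T₁ ≤ T₁ ⊔ T₂) = l₂.trans le_sup_right from rfl, ← mapQ_mapQ Q l₂ le_sup_right]
    have := congr(mapQ Q (le_sup_right : T₂ ≤ T₁ ⊔ T₂) ($hE₂ q))
    simp only [AlgHom.comp_apply, AlgHom.restrictScalars_apply] at this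
    rw [this]
    simp [mapQ]
  · refine Algebra.TensorProduct.ext (Subsingleton.elim _ _) (AlgHom.ext fun q => ?_)
    show F₂ (F₁ (1 ⊗ₜ q)) = 1 ⊗ₜ q
    simp only [F₂, F₁, extend_one_tmul, AlgHom.comp_apply]
    rw [← mapQ_extend]
    rw [← mapQ_mapQ P l₁ le_sup_left]
    have := congr(mapQ P (le_sup_left : T₁ ≤ T₁ ⊔ T₂) ($hE₁ q))
    simp only [AlgHom.comp_apply, AlgHom.restrictScalars_apply] at this
    rw [this]
    simp [mapQ]

/-- A finitely presented algebra has a model over a finitely generated subring, containing any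
given finite set. -/
theorem exists_model (A B : Type u) [CommRing A] [CommRing B] [Algebra A B]
    [Algebra.FinitePresentation A B] (F : Finset A) :
    ∃ (A₀ : Subalgebra ℤ A) (B₀ : Type u) (_ : CommRing B₀) (_ : Algebra A₀ B₀),
      A₀.FG ∧ (F : Set A) ⊆ A₀ ∧ Algebra.FinitePresentation A₀ B₀ ∧
      Nonempty (A ⊗[A₀] B₀ ≃ₐ[A] B) := by
  classical
  let P := Algebra.Presentation.ofFinitePresentation A B
  let A₀ : Subalgebra ℤ A := Algebra.adjoin ℤ (P.coeffs ∪ (F : Set A))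
  have : P.HasCoeffs A₀ := ⟨fun a ha => ⟨⟨a, Algebra.subset_adjoin (Or.inl ha)⟩, rfl⟩⟩
  exact ⟨A₀, P.ModelOfHasCoeffs A₀, inferInstance, inferInstance,
    Subalgebra.fg_def.mpr ⟨_, P.finite_coeffs.union F.finite_toSet, rfl⟩,
    fun a ha => Algebra.subset_adjoin (Or.inr ha), inferInstance,
    ⟨P.tensorModelOfHasCoeffsEquiv A₀⟩⟩

/-- A stage over a finitely generated subring is finitely generated over `ℤ`. -/
theorem finiteType_stage {A₀ : Subalgebra ℤ A} (h₀ : A₀.FG) (S : Subalgebra A₀ A) (hS : S.FG) :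
    Algebra.FiniteType ℤ (S : Type u) := by
  have : Algebra.FiniteType ℤ A₀ := A₀.fg_iff_finiteType.mp h₀
  have : Algebra.FiniteType A₀ (S : Type u) := S.fg_iff_finiteType.mp hS
  exact Algebra.FiniteType.trans (S := A₀) inferInstance inferInstance

/-- A flat finitely presented algebra has a flat model. -/
theorem exists_flat_model (A B : Type u) [CommRing A] [CommRing B] [Algebra A B]
    [Algebra.FinitePresentation A B] [Module.Flat A B] :
    ∃ (A₀ : Type u) (_ : CommRing A₀) (_ : Algebra A₀ A) (B₀ : Type u) (_ : CommRing B₀)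
      (_ : Algebra A₀ B₀), Algebra.FiniteType ℤ A₀ ∧ Algebra.FiniteType A₀ B₀ ∧
      Module.Flat A₀ B₀ ∧ Nonempty (A ⊗[A₀] B₀ ≃ₐ[A] B) := by
  classical
  obtain ⟨R, B₀, _, _, hR, -, hB₀, ⟨e⟩⟩ := exists_model A B ∅
  have : Module.Flat A (A ⊗[R] B₀) := Module.Flat.of_linearEquiv e.toLinearEquiv
  let ι := {T : Subalgebra R A // T.FG}
  obtain ⟨⟨S, hS⟩, hflat⟩ := GrothLib.FlatLimit.exists_stage_flat (A₀ := R) (A := A)
    (fun T : ι => (T.1 : Type u))
    (fun i i' => ⟨⟨i.1 ⊔ i'.1, i.2.sup i'.2⟩, Subalgebra.inclusion le_sup_left,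
      Subalgebra.inclusion le_sup_right, fun _ => rfl, fun _ => rfl⟩)
    (fun F => ⟨⟨Algebra.adjoin R (F : Set A), Subalgebra.fg_adjoin_finset F⟩,
      fun a ha => ⟨⟨a, Algebra.subset_adjoin ha⟩, rfl⟩⟩)
    (fun i p hp => ⟨i, AlgHom.id R _, fun _ => rfl, fun x hx => Subtype.ext (hp x hx)⟩)
    B₀ B₀
  exact ⟨(S : Type u), inferInstance, inferInstance, (S : Type u) ⊗[R] B₀, inferInstance,
    inferInstance, finiteType_stage hR S hS, inferInstance, hflat,
    ⟨(Algebra.TensorProduct.cancelBaseChange R (S : Type u) A A B₀).trans e⟩⟩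

end GrothLib.Approx6
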