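import Groth.Agent.Lib.Approx6.Ring
import Mathlib.AlgebraicGeometry.Morphisms.Flat
import Mathlib.AlgebraicGeometry.Morphisms.FinitePresentation
import Mathlib.AlgebraicGeometry.Morphisms.Affine
import Mathlib.Algebra.Category.Ring.Constructions

/-!
# Noetherian models of finitely presented morphisms of affine schemes
-/

universe u

open CategoryTheory Limits AlgebraicGeometry TensorProduct

noncomputable section

namespace GrothLib.Approx6

/-- A model of an algebra gives a cartesian square of affine schemes. -/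
theorem isPullback_model {X S : Scheme.{u}} (f : X ⟶ S) [IsAffine X] [IsAffine S]
    (A₀ B₀ : Type u) [CommRing A₀] [CommRing B₀] [Algebra A₀ Γ(S, ⊤)] [Algebra A₀ B₀]
    (e : letI := f.appTop.hom.toAlgebra; Γ(S, ⊤) ⊗[A₀] B₀ ≃ₐ[Γ(S, ⊤)] Γ(X, ⊤)) :
    ∃ (g : S ⟶ Spec (CommRingCat.of A₀)) (g' : X ⟶ Spec (CommRingCat.of B₀)),
      IsPullback g' f (Spec.map (CommRingCat.ofHom (algebraMap A₀ B₀))) g := by
  letI := f.appTop.hom.toAlgebra
  have h := isPullback_SpecMap_of_isPushout _ _ _ _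
    (CommRingCat.isPushout_tensorProduct A₀ Γ(S, ⊤) B₀).flip
  let i : X ⟶ Spec (CommRingCat.of (Γ(S, ⊤) ⊗[A₀] B₀)) :=
    X.isoSpec.hom ≫ Spec.map e.toRingEquiv.toCommRingCatIso.hom
  have : IsIso i := inferInstance
  have sq : IsPullback i f (Spec.map (CommRingCat.ofHom
      (Algebra.TensorProduct.includeLeftRingHom : Γ(S, ⊤) →+* Γ(S, ⊤) ⊗[A₀] B₀))) S.isoSpec.hom := by
    refine IsPullback.of_horiz_isIso ⟨?_⟩
    rw [Category.assoc, ← Spec.map_comp,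
      show CommRingCat.ofHom (Algebra.TensorProduct.includeLeftRingHom :
        Γ(S, ⊤) →+* Γ(S, ⊤) ⊗[A₀] B₀) ≫ e.toRingEquiv.toCommRingCatIso.hom = f.appTop from
        CommRingCat.hom_ext (RingHom.ext e.commutes)]
    exact Scheme.isoSpec_hom_naturality f
  exact ⟨_, _, sq.paste_horiz h⟩

/-- A cartesian square of affine schemes gives a model. -/
theorem model_of_isPullback {X S X₁ S₁ : Scheme.{u}} {f : X ⟶ S} [IsAffine S]
    [IsAffine X₁] [IsAffine S₁] {f₁ : X₁ ⟶ S₁} {g : S ⟶ S₁} {g' : X ⟶ X₁}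
    (h : IsPullback g' f f₁ g) :
    letI := f.appTop.hom.toAlgebra; letI := g.appTop.hom.toAlgebra; letI := f₁.appTop.hom.toAlgebra
    Nonempty (Γ(S, ⊤) ⊗[Γ(S₁, ⊤)] Γ(X₁, ⊤) ≃ₐ[Γ(S, ⊤)] Γ(X, ⊤)) := by
  letI := f.appTop.hom.toAlgebra
  letI := g.appTop.hom.toAlgebra
  letI := f₁.appTop.hom.toAlgebra
  letI := g'.appTop.hom.toAlgebra
  letI : Algebra Γ(S₁, ⊤) Γ(X, ⊤) := (g.appTop ≫ f.appTop).hom.toAlgebra
  haveI : IsScalarTower Γ(S₁, ⊤) Γ(S, ⊤) Γ(X, ⊤) := IsScalarTower.of_algebraMap_eq fun x => rfl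
  haveI : IsScalarTower Γ(S₁, ⊤) Γ(X₁, ⊤) Γ(X, ⊤) := IsScalarTower.of_algebraMap_eq fun x => by
    have := congr($(congrArg Scheme.Hom.appTop h.w).hom x)
    simp only [Scheme.Hom.comp_appTop] at this
    exact this.symm
  haveI : Algebra.IsPushout Γ(S₁, ⊤) Γ(S, ⊤) Γ(X₁, ⊤) Γ(X, ⊤) :=
    CommRingCat.isPushout_iff_isPushout.mp (isPushout_appTop_of_isPullback h.flip)
  exact ⟨Algebra.IsPushout.equiv Γ(S₁, ⊤) Γ(S, ⊤) Γ(X₁, ⊤) Γ(X, ⊤)⟩

theorem finiteType_top {R : Type u} [CommRing R] [h : Algebra.FiniteType ℤ R] :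
    Algebra.FiniteType ℤ Γ(Spec (CommRingCat.of R), ⊤) :=
  h.equiv (AlgEquiv.ofRingEquiv (f := (Scheme.ΓSpecIso (CommRingCat.of R)).symm.commRingCatIsoToRingEquiv)
    fun x => by simp)

theorem locallyOfFiniteType_map {A₀ B₀ : Type u} [CommRing A₀] [CommRing B₀] [Algebra A₀ B₀]
    [Algebra.FiniteType A₀ B₀] :
    LocallyOfFiniteType (Spec.map (CommRingCat.ofHom (algebraMap A₀ B₀))) := by
  rw [HasRingHomProperty.Spec_iff (P := @LocallyOfFiniteType)]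
  exact RingHom.finiteType_algebraMap.mpr ‹_›

theorem flat_map {A₀ B₀ : Type u} [CommRing A₀] [CommRing B₀] [Algebra A₀ B₀] [Module.Flat A₀ B₀] :
    Flat (Spec.map (CommRingCat.ofHom (algebraMap A₀ B₀))) := by
  rw [HasRingHomProperty.Spec_iff (P := @Flat)]
  exact RingHom.flat_algebraMap_iff.mpr ‹_›

theorem finitePresentation_appTop {X S : Scheme.{u}} (f : X ⟶ S) [IsAffine X] [IsAffine S]
    [LocallyOfFinitePresentation f] :
    letI := f.appTop.hom.toAlgebra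
    Algebra.FinitePresentation Γ(S, ⊤) Γ(X, ⊤) :=
  HasRingHomProperty.appTop @LocallyOfFinitePresentation f inferInstance

/-- **Noetherian approximation** for finitely presented morphisms of affine schemes. -/
theorem noetherian_approximation {X S : Scheme.{u}} (f : X ⟶ S) [IsAffine X] [IsAffine S]
    [LocallyOfFinitePresentation f] :
    ∃ (X₀ S₀ : Scheme.{u}) (f₀ : X₀ ⟶ S₀) (g : S ⟶ S₀) (g' : X ⟶ X₀), IsAffine X₀ ∧ IsAffine S₀ ∧
      IsPullback g' f f₀ g ∧ Algebra.FiniteType ℤ Γ(S₀, ⊤) ∧ LocallyOfFiniteType f₀ := by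
  letI := f.appTop.hom.toAlgebra
  have := finitePresentation_appTop f
  obtain ⟨A₀, B₀, _, _, hA, -, hB, ⟨e⟩⟩ := exists_model Γ(S, ⊤) Γ(X, ⊤) ∅
  have : Algebra.FiniteType ℤ A₀ := A₀.fg_iff_finiteType.mp hA
  obtain ⟨g, g', h⟩ := isPullback_model f A₀ B₀ e
  exact ⟨_, _, _, g, g', inferInstance, inferInstance, h, finiteType_top, locallyOfFiniteType_map⟩

/-- Noetherian approximation of flat morphisms. -/
theorem noetherian_approximation_flat {X S : Scheme.{u}} (f : X ⟶ S) [IsAffine X] [IsAffine S]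
    [LocallyOfFinitePresentation f] [Flat f] :
    ∃ (X₀ S₀ : Scheme.{u}) (f₀ : X₀ ⟶ S₀) (g : S ⟶ S₀) (g' : X ⟶ X₀), IsAffine X₀ ∧ IsAffine S₀ ∧
      IsPullback g' f f₀ g ∧ Algebra.FiniteType ℤ Γ(S₀, ⊤) ∧ LocallyOfFiniteType f₀ ∧ Flat f₀ := by
  letI := f.appTop.hom.toAlgebra
  have := finitePresentation_appTop f
  have : Module.Flat Γ(S, ⊤) Γ(X, ⊤) := f.flat_appTop
  obtain ⟨A₀, _, _, B₀, _, _, hA, hB, hfl, ⟨e⟩⟩ := exists_flat_model Γ(S, ⊤) Γ(X, ⊤)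
  obtain ⟨g, g', h⟩ := isPullback_model f A₀ B₀ e
  exact ⟨_, _, _, g, g', inferInstance, inferInstance, h, finiteType_top, locallyOfFiniteType_map,
    flat_map⟩

/-- Two models of a morphism are combined into one. -/
theorem combine_models (A B : Type u) [CommRing A] [CommRing B] [Algebra A B]
    (A₁ B₁ A₂ B₂ : Type u) [CommRing A₁] [CommRing B₁] [CommRing A₂] [CommRing B₂]
    [Algebra A₁ A] [Algebra A₁ B₁] [Algebra A₂ A] [Algebra A₂ B₂]
    [Algebra.FiniteType ℤ A₁] [Algebra.FiniteType ℤ A₂]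
    [Algebra.FiniteType A₁ B₁] [Algebra.FiniteType A₂ B₂]
    (e₁ : A ⊗[A₁] B₁ ≃ₐ[A] B) (e₂ : A ⊗[A₂] B₂ ≃ₐ[A] B) :
    ∃ (A₀ : Type u) (_ : CommRing A₀) (_ : Algebra A₀ A) (_ : Algebra A₁ A₀) (_ : Algebra A₂ A₀),
      Algebra.FiniteType ℤ A₀ ∧ Nonempty (A₀ ⊗[A₁] B₁ ≃ₐ[A₀] A₀ ⊗[A₂] B₂) ∧
      Nonempty (A ⊗[A₀] (A₀ ⊗[A₁] B₁) ≃ₐ[A] B) := by
  classical
  obtain ⟨s₁, hs₁⟩ := Algebra.FiniteType.out (R := ℤ) (A := A₁)
  obtain ⟨s₂, hs₂⟩ := Algebra.FiniteType.out (R := ℤ) (A := A₂)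
  let R : Subalgebra ℤ A :=
    Algebra.adjoin ℤ ↑(s₁.image (algebraMap A₁ A) ∪ s₂.image (algebraMap A₂ A))
  have h₁ : ∀ x : A₁, algebraMap A₁ A x ∈ R := by
    have : (⊤ : Subalgebra ℤ A₁) ≤ R.comap (algebraMap A₁ A).toIntAlgHom := by
      rw [← hs₁, Algebra.adjoin_le_iff]
      exact fun x hx => Algebra.subset_adjoin (Finset.mem_coe.mpr
        (Finset.mem_union_left _ (Finset.mem_image_of_mem _ hx)))
    exact fun x => this (Algebra.mem_top (x := x))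
  have h₂ : ∀ x : A₂, algebraMap A₂ A x ∈ R := by
    have : (⊤ : Subalgebra ℤ A₂) ≤ R.comap (algebraMap A₂ A).toIntAlgHom := by
      rw [← hs₂, Algebra.adjoin_le_iff]
      exact fun x hx => Algebra.subset_adjoin (Finset.mem_coe.mpr
        (Finset.mem_union_right _ (Finset.mem_image_of_mem _ hx)))
    exact fun x => this (Algebra.mem_top (x := x))
  letI : Algebra A₁ R := ((algebraMap A₁ A).codRestrict R h₁).toAlgebra
  letI : Algebra A₂ R := ((algebraMap A₂ A).codRestrict R h₂).toAlgebra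
  haveI : IsScalarTower A₁ R A := IsScalarTower.of_algebraMap_eq fun _ => rfl
  haveI : IsScalarTower A₂ R A := IsScalarTower.of_algebraMap_eq fun _ => rfl
  have hR : R.FG := Subalgebra.fg_adjoin_finset _
  have : Algebra.FiniteType ℤ R := R.fg_iff_finiteType.mp hR
  have : IsNoetherianRing R := isNoetherianRing_of_fg hR
  have : Algebra.FinitePresentation R (R ⊗[A₁] B₁) := Algebra.FinitePresentation.of_finiteType.mp inferInstance
  have : Algebra.FinitePresentation R (R ⊗[A₂] B₂) := Algebra.FinitePresentation.of_finiteType.mp inferInstance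
  let c₁ := Algebra.TensorProduct.cancelBaseChange A₁ R A A B₁
  let c₂ := Algebra.TensorProduct.cancelBaseChange A₂ R A A B₂
  obtain ⟨S, hS, ⟨eS⟩⟩ := exists_stage_algEquiv (A₀ := R) (A := A) (P := R ⊗[A₁] B₁) (Q := R ⊗[A₂] B₂)
    ((c₁.trans (e₁.trans e₂.symm)).trans c₂.symm)
  letI : Algebra A₁ (S : Type u) := ((algebraMap R S).comp (algebraMap A₁ R)).toAlgebra
  letI : Algebra A₂ (S : Type u) := ((algebraMap R S).comp (algebraMap A₂ R)).toAlgebra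
  haveI : IsScalarTower A₁ R (S : Type u) := IsScalarTower.of_algebraMap_eq fun _ => rfl
  haveI : IsScalarTower A₂ R (S : Type u) := IsScalarTower.of_algebraMap_eq fun _ => rfl
  haveI : IsScalarTower A₁ (S : Type u) A := IsScalarTower.of_algebraMap_eq fun _ => rfl
  exact ⟨(S : Type u), inferInstance, inferInstance, inferInstance, inferInstance,
    finiteType_stage hR S hS,
    ⟨((Algebra.TensorProduct.cancelBaseChange A₁ R S S B₁).symm.trans eS).trans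
      (Algebra.TensorProduct.cancelBaseChange A₂ R S S B₂)⟩,
    ⟨(Algebra.TensorProduct.cancelBaseChange A₁ S A A B₁).trans e₁⟩⟩

/-- The base change of a model. -/
theorem of_baseChange (P : MorphismProperty Scheme.{u}) [P.IsStableUnderBaseChange]
    {X₁ S₁ : Scheme.{u}} [IsAffine X₁] [IsAffine S₁] (f₁ : X₁ ⟶ S₁) (hP : P f₁)
    (A₀ : Type u) [CommRing A₀] [Algebra Γ(S₁, ⊤) A₀] (B₀ : Type u) [CommRing B₀] [Algebra A₀ B₀]
    (e : letI := f₁.appTop.hom.toAlgebra; A₀ ⊗[Γ(S₁, ⊤)] Γ(X₁, ⊤) ≃ₐ[A₀] B₀) :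
    P (Spec.map (CommRingCat.ofHom (algebraMap A₀ B₀))) := by
  letI := f₁.appTop.hom.toAlgebra
  have h := isPullback_SpecMap_of_isPushout _ _ _ _
    (CommRingCat.isPushout_tensorProduct Γ(S₁, ⊤) A₀ Γ(X₁, ⊤)).flip
  have sq : IsPullback X₁.isoSpec.inv (Spec.map f₁.appTop) f₁ S₁.isoSpec.inv :=
    IsPullback.of_horiz_isIso ⟨(Scheme.isoSpec_inv_naturality f₁).symm⟩
  have hsq : P (Spec.map (CommRingCat.ofHom (Algebra.TensorProduct.includeLeftRingHom :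
      A₀ →+* A₀ ⊗[Γ(S₁, ⊤)] Γ(X₁, ⊤)))) :=
    P.of_isPullback h (P.of_isPullback sq hP)
  refine P.of_isPullback (IsPullback.of_horiz_isIso
    (fst := Spec.map e.toRingEquiv.toCommRingCatIso.hom) (g := 𝟙 _) ⟨?_⟩) hsq
  rw [Category.comp_id, ← Spec.map_comp]
  congr 1
  exact CommRingCat.hom_ext (RingHom.ext e.commutes)

/-- Combine two properties in one Noetherian model. -/
theorem noetherian_approximation_combine (P Q : MorphismProperty Scheme.{u})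
    [P.IsStableUnderBaseChange] [Q.IsStableUnderBaseChange]
    {X S : Scheme.{u}} (f : X ⟶ S) [IsAffine X] [IsAffine S]
    {X₁ S₁ X₂ S₂ : Scheme.{u}} [IsAffine X₁] [IsAffine S₁] [IsAffine X₂] [IsAffine S₂]
    (f₁ : X₁ ⟶ S₁) (g₁ : S ⟶ S₁) (g₁' : X ⟶ X₁) (h₁ : IsPullback g₁' f f₁ g₁)
    (f₂ : X₂ ⟶ S₂) (g₂ : S ⟶ S₂) (g₂' : X ⟶ X₂) (h₂ : IsPullback g₂' f f₂ g₂)
    (hS₁ : Algebra.FiniteType ℤ Γ(S₁, ⊤)) (hS₂ : Algebra.FiniteType ℤ Γ(S₂, ⊤))
    [LocallyOfFiniteType f₁] [LocallyOfFiniteType f₂] (hP : P f₁) (hQ : Q f₂) :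
    ∃ (X₀ S₀ : Scheme.{u}) (f₀ : X₀ ⟶ S₀) (g : S ⟶ S₀) (g' : X ⟶ X₀), IsAffine X₀ ∧ IsAffine S₀ ∧
      IsPullback g' f f₀ g ∧ Algebra.FiniteType ℤ Γ(S₀, ⊤) ∧ LocallyOfFiniteType f₀ ∧ P f₀ ∧ Q f₀ := by
  letI := f.appTop.hom.toAlgebra
  letI := g₁.appTop.hom.toAlgebra
  letI := g₂.appTop.hom.toAlgebra
  letI := f₁.appTop.hom.toAlgebra
  letI := f₂.appTop.hom.toAlgebra
  obtain ⟨e₁⟩ := model_of_isPullback h₁
  obtain ⟨e₂⟩ := model_of_isPullback h₂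
  have : Algebra.FiniteType Γ(S₁, ⊤) Γ(X₁, ⊤) :=
    HasRingHomProperty.appTop @LocallyOfFiniteType f₁ inferInstance
  have : Algebra.FiniteType Γ(S₂, ⊤) Γ(X₂, ⊤) :=
    HasRingHomProperty.appTop @LocallyOfFiniteType f₂ inferInstance
  obtain ⟨A₀, _, _, _, _, hA, ⟨eS⟩, ⟨e⟩⟩ := combine_models Γ(S, ⊤) Γ(X, ⊤) _ _ _ _ e₁ e₂
  obtain ⟨g, g', h⟩ := isPullback_model f A₀ (A₀ ⊗[Γ(S₁, ⊤)] Γ(X₁, ⊤)) e
  exact ⟨_, _, _, g, g', inferInstance, inferInstance, h, finiteType_top, locallyOfFiniteType_map,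
    of_baseChange P f₁ hP A₀ _ AlgEquiv.refl, of_baseChange Q f₂ hQ A₀ _ eS.symm⟩

end GrothLib.Approx6
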